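import Cfsg.Agent.Lib.Comp.M12x.Main
import Cfsg.Agent.Lib.Comp.Cover2

set_option maxRecDepth 100000
set_option Elab.async false

namespace Cfsg.Lib.Comp.M12x

universe u

noncomputable def Cv2R : List (List ℕ × ℕ) := [([1],3),
 ([3],3),
 ([1,3],3),
 ([1,4],3),
 ([1,1,3,3,2,3,2,4],0),
 ([1,1,3,2,4,4,1,4],0),
 ([5],1),
 ([1,5],1),
 ([3,5],3),
 ([3,3,5],2),
 ([1,1,3,5,4,5,2,3,5,4],0),
 ([6],1),
 ([3,6],1),
 ([5,6],1),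
 ([1,6],3),
 ([1,1,6],2),
 ([1,1,3,6,2,6,4,1,6,4],0),
 ([7],1),
 ([5,7],1),
 ([6,7],1),
 ([1,7,4],1),
 ([1,7],3),
 ([3,7],3),
 ([1,4,7],2),
 ([1,1,7,1,1,7,1,1,7,8],0),
 ([1,2],0),
 ([3,4],0),
 ([2,1],0),
 ([4,3],0),
 ([8],1)]

noncomputable def Cv2n_1 : Net :=
 (Net.cons 12 (nat_lit 0x902)
 (Net.cons 6 (nat_lit 0x28016)
 (Net.cons 3 (nat_lit 0x106100)
 (Net.cons 1 (nat_lit 0x48008)
 (Net.cons 1 (nat_lit 0x90080)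
 (Net.cons 1 (nat_lit 0x40)
 (Net.cons 3 (nat_lit 0x421c6)
 (Net.cons 6 (nat_lit 0x27026)
 (Net.cons 12 (nat_lit 0x248)
 Net.nil)))))))))

noncomputable def Cv2n_3 : Net :=
 (Net.cons 12 (nat_lit 0xd0)
 (Net.cons 6 (nat_lit 0x8038)
 (Net.cons 3 (nat_lit 0x84104)
 (Net.cons 1 (nat_lit 0x240200)
 (Net.cons 1 (nat_lit 0x82402)
 (Net.cons 1 (nat_lit 0x40200)
 (Net.cons 3 (nat_lit 0x86146)
 (Net.cons 6 (nat_lit 0x1d002)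
 (Net.cons 12 (nat_lit 0x4c2)
 Net.nil)))))))))

noncomputable def Cv2n_5 : Net :=
 (Net.cons 12 (nat_lit 0x600)
 (Net.cons 6 (nat_lit 0x30038)
 (Net.cons 3 (nat_lit 0x106000)
 (Net.cons 1 (nat_lit 0x1208)
 (Net.cons 1 (nat_lit 0x90010)
 (Net.cons 1 (nat_lit 0x8)
 (Net.cons 3 (nat_lit 0x42100)
 (Net.cons 6 (nat_lit 0x16038)
 (Net.cons 12 (nat_lit 0x600)
 Net.nil)))))))))

noncomputable def Cv2n_6 : Net :=
 (Net.cons 12 (nat_lit 0x280)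
 (Net.cons 6 (nat_lit 0x10008)
 (Net.cons 3 (nat_lit 0x6100)
 (Net.cons 1 (nat_lit 0x1200)
 (Net.cons 1 (nat_lit 0x12410)
 (Net.cons 1 (nat_lit 0x8200)
 (Net.cons 3 (nat_lit 0xc1180)
 (Net.cons 6 (nat_lit 0x10008)
 (Net.cons 12 (nat_lit 0x280)
 Net.nil)))))))))

noncomputable def Cv2n_7 : Net :=
 (Net.cons 12 (nat_lit 0xa6c)
 (Net.cons 6 (nat_lit 0x20028)
 (Net.cons 3 (nat_lit 0x184006)
 (Net.cons 1 (nat_lit 0x249048)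
 (Net.cons 1 (nat_lit 0x90492)
 (Net.cons 1 (nat_lit 0x48201)
 (Net.cons 3 (nat_lit 0xc11c1)
 (Net.cons 6 (nat_lit 0x1f03c)
 (Net.cons 12 (nat_lit 0xa6c)
 Net.nil)))))))))

noncomputable def Cv2n_8 : Net :=
 (Net.cons 12 (nat_lit 0x538)
 (Net.cons 6 (nat_lit 0x1c004)
 (Net.cons 3 (nat_lit 0x104106)
 (Net.cons 1 (nat_lit 0x209249)
 (Net.cons 1 (nat_lit 0x90402)
 (Net.cons 1 (nat_lit 0x40201)
 (Net.cons 3 (nat_lit 0x42043)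
 (Net.cons 6 (nat_lit 0x2303b)
 (Net.cons 12 (nat_lit 0x538)
 Net.nil)))))))))

noncomputable def Cv2n : List Net := [Net.nil,
 Cv2n_1,
 Net.rev Cv2n_1,
 Cv2n_3,
 Net.rev Cv2n_3,
 Cv2n_5,
 Cv2n_6,
 Cv2n_7,
 Cv2n_8]

theorem Cv2n_ok : NetsOK 24 Cv2n := netsOK_of (by decide +kernel)

theorem Cv2n_rel : Rels (gp Cv2n) Cv2R := rels_of_relsB (k := 5) Cv2n_ok (by norm_num) (by decide +kernel)

theorem Cv2_z1 : ev (gp Cv2n) [1,8] ^ (0 + 1) = ev (gp Cv2n) [8,1] :=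
  eq_of_eqB (k := 5) Cv2n_ok (by norm_num) (by decide +kernel)

theorem Cv2_z2 : ev (gp Cv2n) [2,8] ^ (0 + 1) = ev (gp Cv2n) [8,2] :=
  eq_of_eqB (k := 5) Cv2n_ok (by norm_num) (by decide +kernel)

theorem Cv2_z3 : ev (gp Cv2n) [3,8] ^ (0 + 1) = ev (gp Cv2n) [8,3] :=
  eq_of_eqB (k := 5) Cv2n_ok (by norm_num) (by decide +kernel)

theorem Cv2_z4 : ev (gp Cv2n) [4,8] ^ (0 + 1) = ev (gp Cv2n) [8,4] :=
  eq_of_eqB (k := 5) Cv2n_ok (by norm_num) (by decide +kernel)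

theorem Cv2_z5 : ev (gp Cv2n) [5,8] ^ (0 + 1) = ev (gp Cv2n) [8,5] :=
  eq_of_eqB (k := 5) Cv2n_ok (by norm_num) (by decide +kernel)

theorem Cv2_z6 : ev (gp Cv2n) [6,8] ^ (0 + 1) = ev (gp Cv2n) [8,6] :=
  eq_of_eqB (k := 5) Cv2n_ok (by norm_num) (by decide +kernel)

theorem Cv2_z7 : ev (gp Cv2n) [7,8] ^ (0 + 1) = ev (gp Cv2n) [8,7] :=
  eq_of_eqB (k := 5) Cv2n_ok (by norm_num) (by decide +kernel)

theorem Cv2_a : ev (gp Cv2n) (apd [5,3,3,2] [1,4,4,5]) ^ (0 + 1) = ev (gp Cv2n) [] :=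
  eq_of_eqB (k := 5) Cv2n_ok (by norm_num) (by decide +kernel)

theorem Cv2_b : ev (gp Cv2n) (apd [3,6,7] [7,6,4]) ^ (0 + 1) = ev (gp Cv2n) [] :=
  eq_of_eqB (k := 5) Cv2n_ok (by norm_num) (by decide +kernel)

theorem Cv2_c : ev (gp Cv2n) (apd [5,3,3,2] (apd [3,6,7] (apd [1,4,4,5] [7,6,4]))) ^ (1 + 1) = ev (gp Cv2n) [8] :=
  eq_of_eqB (k := 5) Cv2n_ok (by norm_num) (by decide +kernel)

theorem Cv2 (hs : IsSimpleGroup (cl (gp nets) L)) : Cover (cl (gp nets) L) (2 ^ (0 + 1)) :=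
  cover_nets (R := R) hs nets_iv nets_rel (ord.of_cons (cons_of_subset (by decide +kernel))) lb Cv2n_ok Cv2n_rel (m := 2) (by decide +kernel)
    (by unfold L; simp only [List.forall_mem_cons]; exact ⟨Cv2_z1, Cv2_z2, Cv2_z3, Cv2_z4, Cv2_z5, Cv2_z6, Cv2_z7, by simp⟩) Cv2_a Cv2_b Cv2_c
    (x := 1) (y := 3) (k := 1) (pt := 3) (pt' := 0) (by norm_num) (by decide +kernel) (by norm_num) (by decide +kernel)

end Cfsg.Lib.Comp.M12x
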