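import Cfsg.Agent.Lib.Comp.M12x.Base

set_option maxRecDepth 100000
set_option Elab.async false

namespace Cfsg.Lib.Comp.M12x

universe u

noncomputable def T0_R : List (List ℕ × ℕ) := [([1],3),
 ([3],3),
 ([1,3],3),
 ([1,4],3),
 ([1,1,3,3,2,3,2,4],0),
 ([1,1,3,2,4,4,1,4],0),
 ([5],1),
 ([1,5],1),
 ([3,5],3),
 ([3,3,5],2),
 ([1,1,3,5,4,5,2,3,5,4],0),
 ([6],1),
 ([3,6],1),
 ([5,6],1),
 ([1,6],3),
 ([1,1,6],2),
 ([1,1,3,6,2,6,4,1,6,4],0),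
 ([7],1),
 ([5,7],1),
 ([6,7],1),
 ([1,7,4],1),
 ([1,7],3),
 ([3,7],3),
 ([1,4,7],2),
 ([1,1,7],2),
 ([1,2],0),
 ([3,4],0)]

noncomputable def T0_n_1 : Net :=
 (Net.cons 6 (nat_lit 0x10)
 (Net.cons 3 (nat_lit 0x2)
 (Net.cons 1 (nat_lit 0x240)
 (Net.cons 1 (nat_lit 0x10)
 (Net.cons 1 (nat_lit 0x8)
 (Net.cons 3 (nat_lit 0x46)
 (Net.cons 6 (nat_lit 0x10)
 Net.nil)))))))

noncomputable def T0_n_3 : Net :=
 (Net.cons 6 (nat_lit 0x4)
 (Net.cons 3 (nat_lit 0x184)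
 (Net.cons 1 (nat_lit 0x410)
 (Net.cons 1 (nat_lit 0x208)
 (Net.cons 3 (nat_lit 0x1c6)
 (Net.cons 6 (nat_lit 0x4)
 Net.nil))))))

noncomputable def T0_n_5 : Net :=
 (Net.cons 6 (nat_lit 0x10)
 (Net.cons 3 (nat_lit 0x4)
 (Net.cons 1 (nat_lit 0x248)
 (Net.cons 1 (nat_lit 0x10)
 (Net.cons 1 (nat_lit 0x8)
 (Net.cons 3 (nat_lit 0x1c4)
 (Net.cons 6 (nat_lit 0x10)
 Net.nil)))))))

noncomputable def T0_n_6 : Net :=
 (Net.cons 6 (nat_lit 0x24)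
 (Net.cons 3 (nat_lit 0x100)
 (Net.cons 1 (nat_lit 0x48)
 (Net.cons 1 (nat_lit 0x480)
 (Net.cons 1 (nat_lit 0x200)
 (Net.cons 3 (nat_lit 0xc0)
 (Net.cons 6 (nat_lit 0x24)
 Net.nil)))))))

noncomputable def T0_n_7 : Net :=
 (Net.cons 6 (nat_lit 0x2)
 (Net.cons 3 (nat_lit 0x84)
 (Net.cons 1 (nat_lit 0x201)
 (Net.cons 1 (nat_lit 0x10)
 (Net.cons 3 (nat_lit 0xc5)
 (Net.cons 6 (nat_lit 0x9)
 Net.nil))))))

noncomputable def T0_n : List Net := [Net.nil,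
 T0_n_1,
 Net.rev T0_n_1,
 T0_n_3,
 Net.rev T0_n_3,
 T0_n_5,
 T0_n_6,
 T0_n_7]

theorem T0_n_ok : NetsOK 12 T0_n := netsOK_of (by decide +kernel)

theorem T0_n_rel : Rels (gp T0_n) T0_R := rels_of_relsB (k := 4) T0_n_ok (by norm_num) (by decide +kernel)

noncomputable def T0_b0h : ℕ := (nat_lit 0x7000006000003000000000d000006000000000400000c000300000d00000f000700000400000f000200000c00000d000700000300000d000700000200000c)

noncomputable def T0_b0c : List ℕ := [(nat_lit 0x500001900f302000002000015000009013e0300000900001100000f00000400000600000100000900001100000f01240900000f00000600000e00000600000e000006000005011a0700000000000700000400000e00000400000e000004000001011807000000000000000008)]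

theorem T0_fin : finB 12 T0_n [1,2,3,4,5,6,7] 12 (runH 12 T0_n (tbk 4 4 prs4 T0_n 16) iv T0_R [] ([1,2,3,4,5,6].map fun x => [x]) 0 [(fun t => look T0_b0h 64 t, T0_b0c)]
  [1,5,9,13,17,21,24,44,68,72,76,80,100,104,0,4,20,28,40,48,64,96,100,104,24,28,32,44,48,52,56,76,100,104,4,16,44,100,104,2,68,72,80,104,8,12,16,28,40,48,64,80,84,72]
  (defsH 12 T0_n (ones 96) [7,1,2,3,4,5,1,6] (Nat.shiftLeft 1 0) 0)) = true := by decide +kernel

theorem T0_idx : Idx.{u} iv (T0_R ++ []) ([1,2,3,4,5,6].map fun x => [x]) [1,2,3,4,5,6,7] 12 :=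
  Reach.idx T0_n_ok (reach_runH T0_n_ok (tbk_eq tr4 (by norm_num) (by norm_num) (by norm_num) T0_n_ok) T0_n_rel (reach_defsH T0_n_ok _ _ _ _ _ _) _ _) T0_fin (by norm_num)

end Cfsg.Lib.Comp.M12x
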