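import Cfsg.Agent.Lib.Comp.M12x.Base

set_option maxRecDepth 100000
set_option Elab.async false

namespace Cfsg.Lib.Comp.M12x

universe u

noncomputable def T1_R : List (List ℕ × ℕ) := [([1],3),
 ([3],3),
 ([1,3],3),
 ([1,4],3),
 ([1,1,3,3,2,3,2,4],0),
 ([1,1,3,2,4,4,1,4],0),
 ([5],1),
 ([1,5],1),
 ([3,5],3),
 ([3,3,5],2),
 ([1,1,3,5,4,5,2,3,5,4],0),
 ([6],1),
 ([3,6],1),
 ([5,6],1),
 ([1,6],3),
 ([1,1,6],2),
 ([1,1,3,6,2,6,4,1,6,4],0),
 ([1,2],0),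
 ([3,4],0)]

noncomputable def T1_n_1 : Net :=
 (Net.cons 3 (nat_lit 0x180)
 (Net.cons 1 (nat_lit 0x48)
 (Net.cons 1 (nat_lit 0x402)
 (Net.cons 3 (nat_lit 0x102)
 Net.nil))))

noncomputable def T1_n_3 : Net :=
 (Net.cons 6 (nat_lit 0x38)
 (Net.cons 3 (nat_lit 0x4)
 (Net.cons 1 (nat_lit 0x240)
 (Net.cons 1 (nat_lit 0x90)
 (Net.cons 1 (nat_lit 0x40)
 (Net.cons 3 (nat_lit 0x1c4)
 (Net.cons 6 (nat_lit 0x2c)
 Net.nil)))))))

noncomputable def T1_n_5 : Net :=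
 (Net.cons 6 (nat_lit 0x20)
 (Net.cons 3 (nat_lit 0x184)
 (Net.cons 1 (nat_lit 0x208)
 (Net.cons 1 (nat_lit 0x490)
 (Net.cons 1 (nat_lit 0x48)
 (Net.cons 3 (nat_lit 0x44)
 (Net.cons 6 (nat_lit 0x20)
 Net.nil)))))))

noncomputable def T1_n_6 : Net :=
 (Net.cons 6 (nat_lit 0x1c)
 (Net.cons 3 (nat_lit 0x84)
 (Net.cons 1 (nat_lit 0x241)
 (Net.cons 1 (nat_lit 0x90)
 (Net.cons 1 (nat_lit 0x40)
 (Net.cons 3 (nat_lit 0x84)
 (Net.cons 6 (nat_lit 0x1c)
 Net.nil)))))))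

noncomputable def T1_n : List Net := [Net.nil,
 T1_n_1,
 Net.rev T1_n_1,
 T1_n_3,
 Net.rev T1_n_3,
 T1_n_5,
 T1_n_6]

theorem T1_n_ok : NetsOK 12 T1_n := netsOK_of (by decide +kernel)

theorem T1_n_rel : Rels (gp T1_n) T1_R := rels_of_relsB (k := 4) T1_n_ok (by norm_num) (by decide +kernel)

noncomputable def T1_b0h : ℕ := (nat_lit 0x2000004000003000000000400000c0005000004000004000300000600000c000600000c00000c000500000c00000c000100000300000c000200000200000c)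

noncomputable def T1_b0c : List ℕ := [(nat_lit 0x500001b00f70200000f00000300000c00001100000700000c00000600000400000400000800d80a00000600000100000700000800000a00001100000b00000300000800a10900000300000200000800000a00000600000400000a00000800000a00820900000300000200000c00000200000200000c00000200000500c60800000300000a000005006203000003000002000002000203000000000008)]

theorem T1_fin : finB 12 T1_n [1,2,3,4,5,6] 11 (runH 12 T1_n (tbk 4 4 prs4 T1_n 16) iv T1_R [] ([1,2,3,4,5].map fun x => [x]) 0 [(fun t => look T1_b0h 64 t, T1_b0c)]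
  [1,5,9,13,17,24,44,48,52,68,72,28,64,24,44,52,56,68,2,40,48,64,68,72,4,8,16,20,28,32,40,48,52,56,64,68,72,4,12]
  (defsH 12 T1_n (ones 96) [6,1,2,3,4,5] (Nat.shiftLeft 1 0) 0)) = true := by decide +kernel

theorem T1_idx : Idx.{u} iv (T1_R ++ []) ([1,2,3,4,5].map fun x => [x]) [1,2,3,4,5,6] 11 :=
  Reach.idx T1_n_ok (reach_runH T1_n_ok (tbk_eq tr4 (by norm_num) (by norm_num) (by norm_num) T1_n_ok) T1_n_rel (reach_defsH T1_n_ok _ _ _ _ _ _) _ _) T1_fin (by norm_num)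

end Cfsg.Lib.Comp.M12x
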