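import Cfsg.Agent.Lib.Comp.M12x.Base

set_option maxRecDepth 100000
set_option Elab.async false

namespace Cfsg.Lib.Comp.M12x

universe u

noncomputable def T3_R : List (List ℕ × ℕ) := [([1],3),
 ([3],3),
 ([1,3],3),
 ([1,4],3),
 ([1,1,3,3,2,3,2,4],0),
 ([1,1,3,2,4,4,1,4],0),
 ([1,2],0),
 ([3,4],0)]

noncomputable def T3_n_1 : Net :=
 (Net.cons 40 (nat_lit 0x3ca23e26b0)
 (Net.cons 20 (nat_lit 0x26fb6000001b292)
 (Net.cons 10 (nat_lit 0xe4000f600170001a8)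
 (Net.cons 5 (nat_lit 0x701a0081e0400007010)
 (Net.cons 1 (nat_lit 0x4a0080a4210a128480)
 (Net.cons 1 (nat_lit 0x5094a1284a1094212942)
 (Net.cons 1 (nat_lit 0x2842429404214a029405)
 (Net.cons 1 (nat_lit 0x10002128024014002800)
 (Net.cons 1 (nat_lit 0x8001004000000001400)
 (Net.cons 5 (nat_lit 0x7019000110080f04408)
 (Net.cons 10 (nat_lit 0xcf002f50025a000bc)
 (Net.cons 20 (nat_lit 0x2291c0000058364)
 (Net.cons 40 (nat_lit 0x3c3bb1e0c4)
 Net.nil)))))))))))))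

noncomputable def T3_n_3 : Net :=
 (Net.cons 40 (nat_lit 0xd2120a9e3c)
 (Net.cons 20 (nat_lit 0xf244000000d20c0)
 (Net.cons 10 (nat_lit 0x3c6001c8000c2000c2)
 (Net.cons 5 (nat_lit 0x180002006030060501c)
 (Net.cons 1 (nat_lit 0x21421214002002128401)
 (Net.cons 1 (nat_lit 0x4084a5210a509424080a)
 (Net.cons 1 (nat_lit 0x14a4210842908020405)
 (Net.cons 1 (nat_lit 0x94a500025204000002)
 (Net.cons 1 (nat_lit 0x80080012002000001)
 (Net.cons 5 (nat_lit 0x3000038140101b04c01)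
 (Net.cons 10 (nat_lit 0x34d002fa000c700047)
 (Net.cons 20 (nat_lit 0xa0ca800000f7fb7)
 (Net.cons 40 (nat_lit 0xd2fc97f195)
 Net.nil)))))))))))))

noncomputable def T3_n : List Net := [Net.nil,
 T3_n_1,
 Net.rev T3_n_1,
 T3_n_3,
 Net.rev T3_n_3]

theorem T3_n_ok : NetsOK 80 T3_n := netsOK_of (by decide +kernel)

theorem T3_n_rel : Rels (gp T3_n) T3_R := rels_of_relsB (k := 7) T3_n_ok (by norm_num) (by decide +kernel)

theorem T3_fin : finB 80 T3_n [1,2,3,4] 72 (runH 80 T3_n (fun x p => ptInv (nth Net.nil T3_n x) p) iv T3_R [] ([].map fun x => [x]) 0 []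
  [24,28,0,4,8,12,16,20,24,28,0,4,8,12,16,20,24,28]
  (defsH 80 T3_n (ones 640) [1,2,3,4,1,2,3,4,1,2,3] (Nat.shiftLeft 1 0) 0)) = true := by decide +kernel

theorem T3_idx : Idx.{u} iv (T3_R ++ []) ([].map fun x => [x]) [1,2,3,4] 72 :=
  Reach.idx T3_n_ok (reach_runH T3_n_ok (fun x p _ => ptInv_gp T3_n_ok x p) T3_n_rel (reach_defsH T3_n_ok _ _ _ _ _ _) _ _) T3_fin (by norm_num)

end Cfsg.Lib.Comp.M12x
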