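import Cfsg.Agent.Lib.Comp.M12x.Base

set_option maxRecDepth 100000
set_option Elab.async false

namespace Cfsg.Lib.Comp.M12x

universe u

noncomputable def nets_1 : Net :=
 (Net.cons 6 (nat_lit 0x16)
 (Net.cons 3 (nat_lit 0x186)
 (Net.cons 1 (nat_lit 0x49008)
 (Net.cons 1 (nat_lit 0x490090)
 (Net.cons 1 (nat_lit 0x40)
 (Net.cons 3 (nat_lit 0x182)
 (Net.cons 6 (nat_lit 0x3f006)
 Net.nil)))))))

noncomputable def nets_3 : Net :=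
 (Net.cons 6 (nat_lit 0x28)
 (Net.cons 3 (nat_lit 0x180)
 (Net.cons 1 (nat_lit 0x8048)
 (Net.cons 1 (nat_lit 0x482410)
 (Net.cons 1 (nat_lit 0x240000)
 (Net.cons 3 (nat_lit 0x1c7000)
 (Net.cons 6 (nat_lit 0x3f018)
 Net.nil)))))))

noncomputable def nets_5 : Net :=
 (Net.cons 6 (nat_lit 0x12028)
 (Net.cons 3 (nat_lit 0x86)
 (Net.cons 1 (nat_lit 0x240048)
 (Net.cons 1 (nat_lit 0x410412)
 (Net.cons 1 (nat_lit 0x200008)
 (Net.cons 3 (nat_lit 0x86)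
 (Net.cons 6 (nat_lit 0x16028)
 Net.nil)))))))

noncomputable def nets_6 : Net :=
 (Net.cons 6 (nat_lit 0x38000)
 (Net.cons 3 (nat_lit 0x82086)
 (Net.cons 1 (nat_lit 0x208048)
 (Net.cons 1 (nat_lit 0x12402)
 (Net.cons 1 (nat_lit 0x8000)
 (Net.cons 3 (nat_lit 0x182086)
 (Net.cons 6 (nat_lit 0x38000)
 Net.nil)))))))

noncomputable def nets_7 : Net :=
 (Net.cons 6 (nat_lit 0x6)
 (Net.cons 3 (nat_lit 0x82080)
 (Net.cons 1 (nat_lit 0x201041)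
 (Net.cons 1 (nat_lit 0x480002)
 (Net.cons 1 (nat_lit 0x200001)
 (Net.cons 3 (nat_lit 0x86082)
 (Net.cons 6 (nat_lit 0x26)
 Net.nil)))))))

noncomputable def nets_64 : Net :=
 (Net.cons 1 (nat_lit 0x8240)
 (Net.cons 1 (nat_lit 0x490490)
 (Net.cons 1 (nat_lit 0x240008)
 Net.nil)))

noncomputable def nets_66 : Net :=
 (Net.cons 6 (nat_lit 0x38)
 (Net.cons 1 (nat_lit 0x248008)
 (Net.cons 1 (nat_lit 0x12000)
 (Net.cons 1 (nat_lit 0x8000)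
 (Net.cons 3 (nat_lit 0x1c0)
 (Net.cons 6 (nat_lit 0x38)
 Net.nil))))))

noncomputable def nets : List Net := (apd [Net.nil,
 nets_1,
 Net.rev nets_1,
 nets_3,
 Net.rev nets_3,
 nets_5,
 nets_6,
 nets_7,
 Net.nil,
 Net.nil,
 Net.nil,
 Net.nil,
 Net.nil,
 Net.nil,
 Net.nil,
 Net.nil,
 Net.nil,
 Net.nil,
 Net.nil,
 Net.nil,
 Net.nil,
 Net.nil,
 Net.nil,
 Net.nil,
 Net.nil,
 Net.nil,
 Net.nil,
 Net.nil,
 Net.nil,
 Net.nil,
 Net.nil,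
 Net.nil,
 Net.nil,
 Net.nil,
 Net.nil,
 Net.nil,
 Net.nil,
 Net.nil,
 Net.nil,
 Net.nil]
 [Net.nil,
 Net.nil,
 Net.nil,
 Net.nil,
 Net.nil,
 Net.nil,
 Net.nil,
 Net.nil,
 Net.nil,
 Net.nil,
 Net.nil,
 Net.nil,
 Net.nil,
 Net.nil,
 Net.nil,
 Net.nil,
 Net.nil,
 Net.nil,
 Net.nil,
 Net.nil,
 Net.nil,
 Net.nil,
 Net.nil,
 Net.nil,
 nets_64,
 Net.rev nets_64,
 nets_66])

theorem nets_ok : NetsOK 24 nets := netsOK_of (by decide +kernel)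

theorem nets_rel : Rels (gp nets) R := rels_of_relsB (k := 5) nets_ok (by norm_num) (by decide +kernel)

theorem nets_iv : IvOK (gp nets) iv := ivOK_of_ivB (k := 5) nets_ok (by norm_num) (by decide +kernel)

noncomputable def slp : List (ℕ × List ℕ) := [(64,[1,4,2,4]),
 (65,[3,1,3,2]),
 (66,[3,3,2,4,4,2])]

theorem slp_ok : slpB 24 5 nets slp L = true := by decide +kernel

theorem mem_all {x : ℕ} (h : x ∈ L ++ slp.map (·.1)) : gp nets x ∈ cl (gp nets) L :=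
  cl_eq_of_slpB nets_ok (by norm_num) slp_ok ▸ mem_cl h

theorem lb : 95040 ≤ Nat.card (cl (gp nets) L) := by
  rw [← cl_eq_of_slpB nets_ok (by norm_num) slp_ok]
  exact lb_of_chainB nets_ok (C := [([1,2,3,4,5,6,64,65,66],[7,1,64,1,3,5,6],0,0,12),
 ([1,2,3,4,5,64,65,66],[6,1,64,3,6,5],1,1,11),
 ([1,2,3,4,64,65,66],[5,3,64,1,64],2,2,10),
 ([64,65,66],[1,3,64,1,3],12,12,12),
 ([],[64,66,64],3,3,6)]) (by decide +kernel)

end Cfsg.Lib.Comp.M12x
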